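import Cfsg.Agent.H39.U6E.Lift

/-!
An involution `x` of the centraliser of `z` which exchanges the two involutions `a`, `az` of the
centre of the core `J = ⟨a⟩ × 2^(1+8)` and is semilinear on the natural module is not conjugate to
`z`, when `z` is weakly closed in `J`.
-/

set_option autoImplicit false
set_option maxRecDepth 100000
set_option linter.unusedSectionVars false

namespace H39.Fi22C

open H38.U6C H50.U6C H2.U6E H39.U6E

/-- The core `⟨a⟩ × 2^(1+8)` read on the natural module, with an action of the centraliser. -/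
structure Core {G : Type*} [Group G] (z a : G) (J : Subgroup G) (φ : G → V)
    (ρ : ↥(Subgroup.centralizer ({z} : Set G)) →* Equiv.Perm V) : Prop where
  z_sq : z * z = 1
  z_ne : z ≠ 1
  a_mem : a ∈ J
  z_mem : z ∈ J
  le_cent : J ≤ Subgroup.centralizer ({z} : Set G)
  a_comm : ∀ j ∈ J, Commute a j
  a_sq : a * a = 1
  a_out : a ≠ 1 ∧ a ≠ z
  card_J : Nat.card J = 2 ^ 10
  conj_mem : ∀ g ∈ Subgroup.centralizer ({z} : Set G), ∀ j ∈ J, g * j * g⁻¹ ∈ J
  φ_mul : ∀ p ∈ J, ∀ q ∈ J, φ (p * q) = vadd (φ p) (φ q)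
  φ_surj : ∀ v, ∃ p ∈ J, φ p = v
  φ_ker : ∀ p ∈ J, (φ p = 0 ↔ p = 1 ∨ p = z ∨ p = a ∨ p = a * z)
  φ_sq : ∀ p ∈ J, p * p = if qv (φ p) then z else 1
  φ_comm : ∀ p ∈ J, ∀ q ∈ J, p * q = q * p * if pol (φ p) (φ q) then z else 1
  ρ_φ : ∀ (g : ↥(Subgroup.centralizer ({z} : Set G))) (j : G), j ∈ J →
    φ ((g : G) * j * (g : G)⁻¹) = ρ g (φ j)
  ρ_ker : ∀ g : ↥(Subgroup.centralizer ({z} : Set G)), ρ g = 1 ↔ (g : G) ∈ J
  lin_or_anti : ∀ g : ↥(Subgroup.centralizer ({z} : Set G)), IsLin (ρ g) ∨ IsAnti (ρ g)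

variable {G : Type*} [Group G] [Finite G] {z a : G} {J : Subgroup G} {φ : G → V}
  {ρ : ↥(Subgroup.centralizer ({z} : Set G)) →* Equiv.Perm V}

theorem φ_one (h : Core z a J φ ρ) : φ 1 = 0 := (h.φ_ker 1 J.one_mem).2 (Or.inl rfl)

theorem φ_inv (h : Core z a J φ ρ) {p : G} (hp : p ∈ J) : φ p⁻¹ = φ p := by
  have e := h.φ_mul p hp p⁻¹ (inv_mem hp)
  rw [mul_inv_cancel, φ_one h] at e
  have e2 := congrArg (vadd (φ p)) e
  rw [← H50.U6C.vadd_assoc, H50.U6C.vadd_self, H50.U6C.vadd_comm 0 (φ p⁻¹), vadd_zero',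
    vadd_zero'] at e2
  exact e2.symm

theorem φ_fibre (h : Core z a J φ ρ) {p q : G} (hp : p ∈ J) (hq : q ∈ J) (e : φ p = φ q) :
    ∃ r, (r = 1 ∨ r = z ∨ r = a ∨ r = a * z) ∧ p = q * r := by
  refine ⟨q⁻¹ * p, (h.φ_ker _ (mul_mem (inv_mem hq) hp)).1 ?_, by group⟩
  rw [h.φ_mul _ (inv_mem hq) _ hp, φ_inv h hq, e, H50.U6C.vadd_self]

/-- At most four elements of the core over each vector. -/
theorem ncard_preimage (h : Core z a J φ ρ) (F : Finset V) :
    {p | p ∈ J ∧ φ p ∈ F}.ncard ≤ 4 * F.card := by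
  classical
  obtain ⟨sel, hsel⟩ : ∃ sel : V → G, ∀ v, sel v ∈ J ∧ φ (sel v) = v :=
    ⟨fun v => Classical.choose (h.φ_surj v), fun v => Classical.choose_spec (h.φ_surj v)⟩
  have hsub : {p | p ∈ J ∧ φ p ∈ F} ⊆
      ↑((F ×ˢ ({1, z, a, a * z} : Finset G)).image fun e => sel e.1 * e.2) := by
    rintro p ⟨hp, hF⟩
    obtain ⟨r, hr, e⟩ := φ_fibre h hp (hsel (φ p)).1 (hsel _).2.symm
    refine Finset.mem_coe.2 (Finset.mem_image.2 ⟨(φ p, r), Finset.mem_product.2 ⟨hF, ?_⟩, e.symm⟩)
    simp only [Finset.mem_insert, Finset.mem_singleton]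
    exact hr
  refine (Set.ncard_le_ncard hsub (Finset.finite_toSet _)).trans ?_
  rw [Set.ncard_coe_finset]
  refine Finset.card_image_le.trans ?_
  rw [Finset.card_product, mul_comm]
  exact Nat.mul_le_mul_right _ Finset.card_le_four

/-- Two semilinear fixed vectors determine their combination. -/
theorem card_fixed_anti {f : Equiv.Perm V} (hf : IsAnti f) :
    (Finset.univ.filter fun v : V => f v = v).card ≤ 16 := by
  set F := Finset.univ.filter fun v : V => f v = v with hF
  have hsq : F.card * F.card ≤ 256 := by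
    rw [← Finset.card_product]
    refine (Finset.card_le_card_of_injOn (t := (Finset.univ : Finset V))
      (fun e => vadd e.1 (smul4 2 e.2)) (fun _ _ => Finset.mem_univ _) ?_).trans (by simp)
    rintro ⟨p, r⟩ hp ⟨p', r'⟩ hp' e
    simp only [Finset.coe_product, Set.mem_prod, Finset.mem_coe, hF, Finset.mem_filter,
      Finset.mem_univ, true_and] at hp hp'
    have e' : vadd p (smul4 2 r) = vadd p' (smul4 2 r') := e
    have e2 := congrArg f e'
    rw [hf.add, hf.add, anti_smul_two hf, anti_smul_two hf, hp.1, hp.2, hp'.1, hp'.2, smul_three,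
      smul_three, H50.U6C.vadd_comm r, H50.U6C.vadd_comm r', ← H50.U6C.vadd_assoc,
      ← H50.U6C.vadd_assoc, e'] at e2
    have er : r = r' := by
      simpa [← H50.U6C.vadd_assoc, H50.U6C.vadd_self, H50.U6C.vadd_comm (0 : V), vadd_zero'] using
        congrArg (vadd (vadd p' (smul4 2 r'))) e2
    subst er
    have ep : p = p' := by
      simpa [H50.U6C.vadd_assoc, H50.U6C.vadd_self, vadd_zero'] using
        congrArg (fun x => vadd x (smul4 2 r)) e'
    rw [ep]
  nlinarith

/-- An involution has at least sixteen fixed vectors. -/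
theorem card_fixed_invol {f : Equiv.Perm V} (hadd : ∀ u v, f (vadd u v) = vadd (f u) (f v))
    (hi : f * f = 1) : 16 ≤ (Finset.univ.filter fun v : V => f v = v).card := by
  classical
  set F := Finset.univ.filter fun v : V => f v = v with hF
  have hff : ∀ v, f (f v) = v := fun v => DFunLike.congr_fun hi v
  let d : V → V := fun v => vadd v (f v)
  have hmaps : ∀ v ∈ (Finset.univ : Finset V), d v ∈ F := fun v _ => by
    rw [hF, Finset.mem_filter]
    exact ⟨Finset.mem_univ _, by simp only [d, hadd, hff, H50.U6C.vadd_comm]⟩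
  have hfib : ∀ w ∈ F, ((Finset.univ : Finset V).filter fun v => d v = w).card ≤ F.card := by
    intro w _
    rcases ((Finset.univ : Finset V).filter fun v => d v = w).eq_empty_or_nonempty with e | ⟨u, hu⟩
    · rw [e]; simp
    · refine Finset.card_le_card_of_injOn (fun v => vadd v u) ?_ ?_
      · intro v hv
        simp only [Finset.mem_coe, Finset.mem_filter, Finset.mem_univ, true_and, d] at hv hu ⊢
        rw [hF, Finset.mem_filter]
        refine ⟨Finset.mem_univ _, ?_⟩
        have hfv : ∀ b, vadd b (f b) = w → f b = vadd b w := fun b hb => by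
          rw [← hb, ← H50.U6C.vadd_assoc, H50.U6C.vadd_self, H50.U6C.vadd_comm, vadd_zero']
        rw [hadd, hfv v hv, hfv u hu, vadd_vadd_vadd, H50.U6C.vadd_self, vadd_zero']
      · intro v _ v' _ e
        have := congrArg (fun b => vadd b u) e
        simpa [H50.U6C.vadd_assoc, H50.U6C.vadd_self, vadd_zero'] using this
  have := Finset.card_le_mul_card_image_of_maps_to hmaps _ hfib
  simp only [Finset.card_univ, Fintype.card_fin] at this
  nlinarith

/-- An involution of the centraliser centralises at least sixteen elements of the core. -/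
theorem card_cent_core (h : Core z a J φ ρ) {y : G}
    (hy : y ∈ Subgroup.centralizer ({z} : Set G)) (y2 : y * y = 1) :
    16 ≤ {p | p ∈ J ∧ Commute y p}.ncard := by
  classical
  haveI := Fintype.ofFinite G
  set f := ρ ⟨y, hy⟩ with hf
  have hadd : ∀ u v, f (vadd u v) = vadd (f u) (f v) := fun u v => by
    rcases h.lin_or_anti ⟨y, hy⟩ with hl | hl <;> exact hl.add u v
  have hi : f * f = 1 := by
    rw [hf, ← map_mul]
    refine (h.ρ_ker _).2 ?_
    show y * y ∈ J
    rw [y2]; exact J.one_mem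
  set F := Finset.univ.filter fun v : V => f v = v with hF
  set P := {p | p ∈ J ∧ φ p ∈ F} with hP
  have hJsel : ∀ v, ∃ p ∈ J, φ p = v := h.φ_surj
  obtain ⟨sel, hsel⟩ : ∃ sel : V → G, ∀ v, sel v ∈ J ∧ φ (sel v) = v :=
    ⟨fun v => Classical.choose (hJsel v), fun v => Classical.choose_spec (hJsel v)⟩
  have hK : ∀ r, (r = 1 ∨ r = z ∨ r = a ∨ r = a * z) → r ∈ J ∧ φ r = 0 := by
    intro r hr
    have hm : r ∈ J := by
      rcases hr with rfl | rfl | rfl | rfl
      exacts [J.one_mem, h.z_mem, h.a_mem, mul_mem h.a_mem h.z_mem]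
    exact ⟨hm, (h.φ_ker r hm).2 hr⟩
  -- the preimage of the fixed vectors has four elements over each
  have hPcard : 4 * F.card ≤ P.ncard := by
    have hin : Set.InjOn (fun e : V × G => sel e.1 * e.2)
        ↑(F ×ˢ ({1, z, a, a * z} : Finset G)) := by
      rintro ⟨v, r⟩ hvr ⟨v', r'⟩ hvr' e
      simp only [Finset.coe_product, Set.mem_prod, Finset.mem_coe, Finset.mem_insert,
        Finset.mem_singleton] at hvr hvr'
      have e' : sel v * r = sel v' * r' := e
      have hv : v = v' := by
        have := congrArg φ e'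
        rw [h.φ_mul _ (hsel v).1 _ (hK r hvr.2).1, h.φ_mul _ (hsel v').1 _ (hK r' hvr'.2).1,
          (hK r hvr.2).2, (hK r' hvr'.2).2, vadd_zero', vadd_zero', (hsel v).2, (hsel v').2] at this
        exact this
      subst hv
      rw [mul_left_cancel e']
    have h4 : ({1, z, a, a * z} : Finset G).card = 4 := by
      have h1 : a * z ≠ 1 := fun e => h.a_out.2 (by
        rw [eq_inv_of_mul_eq_one_left e, inv_eq_of_mul_eq_one_right h.z_sq])
      have h2 : a * z ≠ z := fun e => h.a_out.1 (mul_eq_right.1 e)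
      have h3 : a * z ≠ a := fun e => h.z_ne (mul_eq_left.1 e)
      simp [Finset.card_insert_of_notMem, h.z_ne.symm, h.a_out.1.symm, h.a_out.2.symm, h1.symm,
        h2.symm, h3.symm]
    calc 4 * F.card = ((F ×ˢ ({1, z, a, a * z} : Finset G)).image fun e => sel e.1 * e.2).card := by
          rw [Finset.card_image_of_injOn hin, Finset.card_product, h4, mul_comm]
      _ ≤ P.ncard := by
          rw [← Set.ncard_coe_finset]
          refine Set.ncard_le_ncard ?_ (Set.toFinite _)
          intro p hp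
          obtain ⟨⟨v, r⟩, hvr, rfl⟩ := Finset.mem_image.1 (Finset.mem_coe.1 hp)
          obtain ⟨hv, hr⟩ := Finset.mem_product.1 hvr
          simp only [Finset.mem_insert, Finset.mem_singleton] at hr
          refine ⟨mul_mem (hsel v).1 (hK r hr).1, ?_⟩
          rw [h.φ_mul _ (hsel v).1 _ (hK r hr).1, (hK r hr).2, vadd_zero', (hsel v).2]
          exact hv
  -- the commutator map to the centre has at most four values
  let δ : G → G := fun p => p⁻¹ * (y * p * y⁻¹)
  have hδ : ∀ p ∈ P, δ p ∈ ({1, z, a, a * z} : Finset G) := by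
    intro p hp
    have hm := h.conj_mem y hy p hp.1
    obtain ⟨r, hr, e⟩ := φ_fibre h hm hp.1 (by
      rw [show φ (y * p * y⁻¹) = f (φ p) from h.ρ_φ ⟨y, hy⟩ p hp.1]
      exact (Finset.mem_filter.1 hp.2).2)
    simp only [δ, e, inv_mul_cancel_left, Finset.mem_insert, Finset.mem_singleton]
    exact hr
  set C := {p | p ∈ J ∧ Commute y p} with hC
  have hfib : ∀ r ∈ ({1, z, a, a * z} : Finset G),
      (P.toFinset.filter fun p => δ p = r).card ≤ C.toFinset.card := by
    intro r _
    rcases (P.toFinset.filter fun p => δ p = r).eq_empty_or_nonempty with e | ⟨u, hu⟩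
    · rw [e]; simp
    · refine Finset.card_le_card_of_injOn (fun p => p * u⁻¹) ?_ ?_
      · intro p hp
        simp only [Finset.mem_coe, Finset.mem_filter, Set.mem_toFinset] at hp hu ⊢
        refine ⟨mul_mem hp.1.1 (inv_mem hu.1.1), mul_inv_eq_iff_eq_mul.1 ?_⟩
        have hr1 : Commute r u⁻¹ := by
          have := hδ u hu.1
          rw [hu.2] at this
          simp only [Finset.mem_insert, Finset.mem_singleton] at this
          have hz : Commute z u := (z_comm (h.le_cent hu.1.1)).symm
          rcases this with rfl | rfl | rfl | rfl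
          exacts [Commute.one_left _, hz.inv_right, (h.a_comm u hu.1.1).inv_right,
            ((h.a_comm u hu.1.1).mul_left hz).inv_right]
        have ep : y * p * y⁻¹ = p * r := by rw [← hp.2]; simp only [δ]; group
        have eu : y * u * y⁻¹ = u * r := by rw [← hu.2]; simp only [δ]; group
        calc y * (p * u⁻¹) * y⁻¹ = (y * p * y⁻¹) * (y * u * y⁻¹)⁻¹ := by group
          _ = p * u⁻¹ := by rw [ep, eu]; group
      · exact fun p _ p' _ e => mul_right_cancel e
  have := Finset.card_le_mul_card_image_of_maps_to (f := δ) (s := P.toFinset)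
    (t := ({1, z, a, a * z} : Finset G)) (fun p hp => hδ p (Set.mem_toFinset.1 hp)) _ hfib
  rw [← Set.ncard_eq_toFinset_card', ← Set.ncard_eq_toFinset_card'] at this
  have h16 := card_fixed_invol hadd hi
  rw [← hF] at h16
  have h44 : ({1, z, a, a * z} : Finset G).card ≤ 4 := Finset.card_le_four
  have := this.trans (Nat.mul_le_mul_left _ h44)
  omega

/-- The outer kill. -/
theorem outer_not_conj (h : Core z a J φ ρ) (hw : ∀ p ∈ J, IsConj z p → p = z) {x : G}
    (hx : x ∈ Subgroup.centralizer ({z} : Set G)) (hxa : x * a * x⁻¹ = a * z)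
    (hanti : IsAnti (ρ ⟨x, hx⟩)) : ¬ IsConj z x := by
  classical
  intro hc
  haveI := Fintype.ofFinite G
  obtain ⟨g, hg⟩ := isConj_iff.1 hc
  have x2 : x * x = 1 := by
    rw [← hg]
    calc g * z * g⁻¹ * (g * z * g⁻¹) = g * (z * z) * g⁻¹ := by group
      _ = 1 := by rw [h.z_sq]; group
  have xi : x⁻¹ = x := inv_eq_of_mul_eq_one_right x2
  set σ := ρ ⟨x, hx⟩ with hσ
  have hi : σ * σ = 1 := by
    rw [hσ, ← map_mul]
    refine (h.ρ_ker _).2 ?_
    show x * x ∈ J
    rw [x2]; exact J.one_mem
  have hzc : ∀ p ∈ J, Commute z p := fun p hp => (z_comm (h.le_cent hp)).symm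
  have hxz : x * z * x⁻¹ = z := by rw [(z_comm hx).eq, mul_inv_cancel_right]
  -- the elements centralised modulo `z`
  let W : Subgroup G :=
    { carrier := {p | p ∈ J ∧ (x * p * x⁻¹ = p ∨ x * p * x⁻¹ = p * z)}
      one_mem' := ⟨J.one_mem, Or.inl (by group)⟩
      mul_mem' := fun {p q} hp hq => by
        refine ⟨mul_mem hp.1 hq.1, ?_⟩
        rw [show x * (p * q) * x⁻¹ = (x * p * x⁻¹) * (x * q * x⁻¹) by group]
        rcases hp.2 with e | e <;> rcases hq.2 with e' | e' <;> rw [e, e']
        · exact Or.inl rfl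
        · exact Or.inr (by rw [mul_assoc])
        · exact Or.inr (by rw [mul_assoc, (hzc q hq.1).eq, ← mul_assoc])
        · left
          rw [mul_assoc, ← mul_assoc z q z, (hzc q hq.1).eq, mul_assoc q z z, h.z_sq, mul_one]
      inv_mem' := fun {p} hp => by
        refine ⟨inv_mem hp.1, ?_⟩
        rw [show x * p⁻¹ * x⁻¹ = (x * p * x⁻¹)⁻¹ by group]
        rcases hp.2 with e | e <;> rw [e]
        · exact Or.inl rfl
        · right
          rw [mul_inv_rev, inv_eq_of_mul_eq_one_right h.z_sq, ((hzc p hp.1).inv_right).eq] }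
  set A := J ⊓ Subgroup.centralizer ({x} : Set G) with hA
  have hmemA : ∀ {p : G}, p ∈ A ↔ p ∈ J ∧ x * p * x⁻¹ = p := fun {p} => by
    rw [hA, Subgroup.mem_inf, Subgroup.mem_centralizer_singleton_iff, mul_inv_eq_iff_eq_mul]
    exact ⟨fun e => ⟨e.1, e.2.symm⟩, fun e => ⟨e.1, e.2.symm⟩⟩
  have hAW : A ≤ W := fun p hp => ⟨(hmemA.1 hp).1, Or.inl (hmemA.1 hp).2⟩
  have haW : a ∈ W := ⟨h.a_mem, Or.inr hxa⟩
  have haa : ∀ p, p * a * a = p := fun p => by rw [mul_assoc, h.a_sq, mul_one]
  have hflip : ∀ p ∈ W, (p ∈ A ↔ p * a ∉ A) := by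
    intro p hp
    have e0 : x * (p * a) * x⁻¹ = (x * p * x⁻¹) * (a * z) := by rw [← hxa]; group
    have haz : ∀ q, Commute a q → q * (a * z) = q * a * z := fun q _ => by rw [mul_assoc]
    constructor
    · intro hp' hpa
      have e1 := (hmemA.1 hpa).2
      rw [e0, (hmemA.1 hp').2, ← mul_assoc] at e1
      exact h.z_ne (mul_eq_left.1 e1)
    · intro hpa
      rcases hp.2 with e | e
      · exact hmemA.2 ⟨hp.1, e⟩
      · refine absurd (hmemA.2 ⟨mul_mem hp.1 h.a_mem, ?_⟩) hpa
        rw [e0, e, show p * z * (a * z) = p * (z * a) * z by group, (hzc a h.a_mem).eq,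
          show p * (a * z) * z = p * a * (z * z) by group, h.z_sq, mul_one]
  -- the involutions of `x J`
  set I := {p | p ∈ J ∧ (x * p) * (x * p) = 1} with hI
  have hIW : ∀ p ∈ I, p ∈ W := by
    intro p hp
    refine ⟨hp.1, ?_⟩
    have e : x * p * x⁻¹ = p⁻¹ := by
      rw [xi]; exact eq_inv_of_mul_eq_one_left (by rw [← hp.2]; group)
    rw [e]
    have hs := h.φ_sq p hp.1
    by_cases hq : qv (φ p) = true
    · rw [hq, if_pos rfl] at hs
      right
      exact inv_eq_of_mul_eq_one_right (by rw [← mul_assoc, hs, h.z_sq])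
    · rw [if_neg hq] at hs
      exact Or.inl (inv_eq_of_mul_eq_one_right hs)
  have hIflip : ∀ p ∈ W, (p ∈ I ↔ p * a ∉ I) := by
    intro p hp
    have e0 : (x * (p * a)) * (x * (p * a)) = (x * p) * (x * p) * z := by
      have hca : Commute a p := h.a_comm p hp.1
      calc (x * (p * a)) * (x * (p * a)) = x * p * (a * x) * (p * a) := by group
        _ = x * p * (x * (a * z)) * (p * a) := by
            rw [show a * x = x * (a * z) by
              rw [← hxa, ← mul_assoc x, ← mul_assoc x, x2, one_mul, xi]]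
        _ = (x * p) * (x * p) * z := by
            rw [show x * p * (x * (a * z)) * (p * a) = x * p * x * (a * (z * p) * a) by group,
              (hzc p hp.1).eq, show a * (p * z) * a = (a * p) * (z * a) by group, hca.eq,
              (hzc a h.a_mem).eq, show p * a * (a * z) = p * (a * a) * z by group, h.a_sq]
            group
    constructor
    · intro hp' hpa
      have e1 := hpa.2
      rw [e0, hp'.2, one_mul] at e1
      exact h.z_ne e1
    · intro hpa
      refine ⟨hp.1, ?_⟩
      by_contra hne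
      refine hpa ⟨mul_mem hp.1 h.a_mem, ?_⟩
      rw [e0]
      have hz2 : (x * p) * (x * p) = 1 ∨ (x * p) * (x * p) = z := by
        have hs := h.φ_sq p hp.1
        have ee : (x * p) * (x * p) = (x * p * x⁻¹) * (x * x) * p := by group
        rcases hp.2 with e | e
        · rw [ee, e, x2, mul_one, hs]
          by_cases hq : qv (φ p) = true
          · rw [hq, if_pos rfl]; exact Or.inr rfl
          · rw [if_neg hq]; exact Or.inl rfl
        · rw [ee, e, x2, mul_one, mul_assoc, (hzc p hp.1).eq, ← mul_assoc, hs]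
          by_cases hq : qv (φ p) = true
          · rw [hq, if_pos rfl, h.z_sq]; exact Or.inl rfl
          · rw [if_neg hq, one_mul]; exact Or.inr rfl
      rw [hz2.resolve_left hne, h.z_sq]
  have half : ∀ S : Set G, S ⊆ (W : Set G) → (∀ p ∈ W, (p ∈ S ↔ p * a ∉ S)) →
      2 * S.ncard = (W : Set G).ncard := by
    intro S hS hfl
    have himg : (W : Set G) \ S = (fun p => p * a) '' S := by
      ext p
      constructor
      · rintro ⟨hp, hn⟩
        refine ⟨p * a, ?_, haa p⟩
        have := hfl (p * a) (mul_mem hp haW)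
        rw [haa] at this
        exact this.2 hn
      · rintro ⟨q, hq, rfl⟩
        exact ⟨mul_mem (hS hq) haW, (hfl q (hS hq)).1 hq⟩
    have e := Set.ncard_sdiff_add_ncard_of_subset hS (Set.toFinite (W : Set G))
    rw [himg, Set.ncard_image_of_injective _ (mul_left_injective a)] at e
    omega
  have hA2 : 2 * (A : Set G).ncard = (W : Set G).ncard := half _ hAW hflip
  have hI2 : 2 * I.ncard = (W : Set G).ncard := half _ hIW hIflip
  -- the fixed vectors
  have hWfix : ∀ p ∈ W, σ (φ p) = φ p := by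
    intro p hp
    have e := h.ρ_φ ⟨x, hx⟩ p hp.1
    rw [← e]
    show φ (x * p * x⁻¹) = φ p
    rcases hp.2 with e' | e' <;> rw [e']
    rw [h.φ_mul p hp.1 z h.z_mem, (h.φ_ker z h.z_mem).2 (Or.inr (Or.inl rfl)), vadd_zero']
  set F := Finset.univ.filter fun v : V => σ v = v with hF
  have hF16 : F.card ≤ 16 := card_fixed_anti hanti
  have hWle : (W : Set G).ncard ≤ 4 * F.card := by
    refine (Set.ncard_le_ncard (fun p hp => ?_) (Set.toFinite _)).trans (ncard_preimage h F)
    exact ⟨hp.1, Finset.mem_filter.2 ⟨Finset.mem_univ _, hWfix p hp⟩⟩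
  -- the orbit of `x` under `J`
  have horb : 2 ^ 10 ≤ (A : Set G).ncard * I.ncard := by
    let m : G → G := fun p => x⁻¹ * (p * x * p⁻¹)
    have hmaps : ∀ p ∈ (J : Set G).toFinset, m p ∈ I.toFinset := by
      intro p hp
      rw [Set.mem_toFinset] at hp ⊢
      refine ⟨?_, ?_⟩
      · have := h.conj_mem x⁻¹ (inv_mem hx) p hp
        rw [inv_inv] at this
        have e : m p = x⁻¹ * p * x * p⁻¹ := by simp only [m]; group
        rw [e]
        exact mul_mem this (inv_mem hp)
      · simp only [m, mul_inv_cancel_left]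
        rw [show p * x * p⁻¹ * (p * x * p⁻¹) = p * (x * x) * p⁻¹ by group, x2]
        group
    have hfib : ∀ r ∈ I.toFinset, ((J : Set G).toFinset.filter fun p => m p = r).card ≤
        (A : Set G).toFinset.card := by
      intro r _
      rcases ((J : Set G).toFinset.filter fun p => m p = r).eq_empty_or_nonempty with e | ⟨u, hu⟩
      · rw [e]; simp
      · refine Finset.card_le_card_of_injOn (fun p => u⁻¹ * p) ?_ ?_
        · intro p hp
          simp only [Finset.mem_coe, Finset.mem_filter, Set.mem_toFinset, SetLike.mem_coe] at hp hu ⊢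
          refine hmemA.2 ⟨mul_mem (inv_mem hu.1) hp.1, ?_⟩
          have e : p * x * p⁻¹ = u * x * u⁻¹ := by
            have := hp.2.trans hu.2.symm
            simpa [m] using this
          calc x * (u⁻¹ * p) * x⁻¹ = u⁻¹ * (u * x * u⁻¹) * p * x⁻¹ := by group
            _ = u⁻¹ * p := by rw [← e]; group
        · exact fun p _ p' _ e => mul_left_cancel e
    have := Finset.card_le_mul_card_image_of_maps_to hmaps _ hfib
    rw [← Set.ncard_eq_toFinset_card', ← Set.ncard_eq_toFinset_card', ← Set.ncard_eq_toFinset_card',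
      ← Nat.card_coe_set_eq] at this
    exact h.card_J ▸ this
  have hA32 : (A : Set G).ncard = 32 := by nlinarith
  have hI32 : I.ncard = 32 := by omega
  have hWeq : (W : Set G) = {p | p ∈ J ∧ φ p ∈ F} :=
    Set.eq_of_subset_of_ncard_le
      (fun p hp => ⟨hp.1, Finset.mem_filter.2 ⟨Finset.mem_univ _, hWfix p hp⟩⟩)
      (by have := ncard_preimage h F; omega) (Set.toFinite _)
  -- every involution of `x A` is conjugate to `x` under `J`
  have hall : ∀ r ∈ I, ∃ p ∈ J, p * x * p⁻¹ = x * r := by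
    intro r hr
    by_contra hno
    push_neg at hno
    let m : G → G := fun p => x⁻¹ * (p * x * p⁻¹)
    have hsub : m '' (J : Set G) ⊆ I \ {r} := by
      rintro _ ⟨p, hp, rfl⟩
      refine ⟨⟨?_, ?_⟩, fun e => hno p hp ?_⟩
      · have := h.conj_mem x⁻¹ (inv_mem hx) p hp
        rw [inv_inv] at this
        rw [show m p = x⁻¹ * p * x * p⁻¹ by simp only [m]; group]
        exact mul_mem this (inv_mem hp)
      · simp only [m, mul_inv_cancel_left]
        rw [show p * x * p⁻¹ * (p * x * p⁻¹) = p * (x * x) * p⁻¹ by group, x2]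
        group
      · rw [Set.mem_singleton_iff] at e
        rw [← e]; simp [m]
    have hlt : (m '' (J : Set G)).ncard < 32 := by
      have h1 := Set.ncard_le_ncard hsub (Set.toFinite _)
      have h2 := Set.ncard_sdiff_singleton_lt_of_mem hr (Set.toFinite _)
      omega
    have hfib : (J : Set G).ncard ≤ (A : Set G).ncard * (m '' (J : Set G)).ncard := by
      rw [Set.ncard_eq_toFinset_card', Set.ncard_eq_toFinset_card' (A : Set G),
        Set.ncard_eq_toFinset_card' (m '' (J : Set G))]
      refine Finset.card_le_mul_card_image_of_maps_to (f := m) (t := (m '' (J : Set G)).toFinset)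
        (fun p hp => Set.mem_toFinset.2 ⟨p, Set.mem_toFinset.1 hp, rfl⟩) _ fun r _ => ?_
      rcases ((J : Set G).toFinset.filter fun p => m p = r).eq_empty_or_nonempty with e | ⟨u, hu⟩
      · rw [e]; simp
      · refine Finset.card_le_card_of_injOn (fun p => u⁻¹ * p) ?_ ?_
        · intro p hp
          simp only [Finset.mem_coe, Finset.mem_filter, Set.mem_toFinset, SetLike.mem_coe] at hp hu ⊢
          refine hmemA.2 ⟨mul_mem (inv_mem hu.1) hp.1, ?_⟩
          have e : p * x * p⁻¹ = u * x * u⁻¹ := by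
            have := hp.2.trans hu.2.symm
            simpa [m] using this
          calc x * (u⁻¹ * p) * x⁻¹ = u⁻¹ * (u * x * u⁻¹) * p * x⁻¹ := by group
            _ = u⁻¹ * p := by rw [← e]; group
        · exact fun p _ p' _ e => mul_left_cancel e
    rw [← Nat.card_coe_set_eq, show Nat.card ↑(J : Set G) = 2 ^ 10 from h.card_J, hA32] at hfib
    omega
  -- the core at `x`
  have hgz : g⁻¹ * x * g = z := by rw [← hg]; group
  have hJx : ∀ q, g⁻¹ * q * g ∈ J → Commute q x := by
    intro q hq
    have := ((hzc _ hq).symm).map (MulAut.conj g).toMonoidHom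
    simpa [mul_assoc, ← hg] using this
  have hD : ∀ d ∈ J, g⁻¹ * d * g ∈ J → d = 1 := by
    intro d hd hd'
    have hxd : Commute d x := hJx d hd'
    have hds := h.φ_sq d hd
    have hd2 : d * d = 1 := by
      by_cases hq : qv (φ d) = true
      · exfalso
        rw [hq, if_pos rfl] at hds
        have hs2 := h.φ_sq _ hd'
        rw [show g⁻¹ * d * g * (g⁻¹ * d * g) = g⁻¹ * (d * d) * g by group, hds] at hs2
        have hzx : z ≠ x := fun e => by
          have := hxa
          rw [← e, (hzc a h.a_mem).eq, mul_inv_cancel_right] at this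
          exact h.z_ne (mul_eq_left.1 this.symm)
        by_cases hq2 : qv (φ (g⁻¹ * d * g)) = true
        · rw [hq2, if_pos rfl] at hs2
          refine hzx ?_
          calc z = g * (g⁻¹ * z * g) * g⁻¹ := by group
            _ = x := by rw [hs2, hg]
        · rw [if_neg hq2] at hs2
          exact h.z_ne (by
            calc z = g * (g⁻¹ * z * g) * g⁻¹ := by group
              _ = 1 := by rw [hs2]; group)
      · rwa [if_neg hq] at hds
    have hdI : d ∈ I := ⟨hd, by
      rw [show x * d * (x * d) = x * (d * x) * d by group, hxd.eq,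
        show x * (x * d) * d = (x * x) * (d * d) by group, x2, hd2, mul_one]⟩
    obtain ⟨p, -, e⟩ := hall d hdI
    have hcj : IsConj z (z * (g⁻¹ * d * g)) :=
      isConj_iff.2 ⟨g⁻¹ * p * g, by
        rw [show g⁻¹ * p * g * z * (g⁻¹ * p * g)⁻¹ = g⁻¹ * (p * (g * z * g⁻¹) * p⁻¹) * g by group,
          hg, e, ← hgz]
        group⟩
    have := mul_eq_left.1 (hw _ (mul_mem h.z_mem hd') hcj)
    calc d = g * (g⁻¹ * d * g) * g⁻¹ := by group
      _ = 1 := by rw [this]; group
  -- the centraliser of `z` in the core at `x`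
  set y := g⁻¹ * z * g with hy
  have hyC : y ∈ Subgroup.centralizer ({z} : Set G) := by
    refine mem_cent ?_
    have := ((z_comm hx).symm).map (MulAut.conj g⁻¹).toMonoidHom
    simpa [mul_assoc, hy, ← hgz] using this
  have y2 : y * y = 1 := by
    rw [hy, show g⁻¹ * z * g * (g⁻¹ * z * g) = g⁻¹ * (z * z) * g by group, h.z_sq]; group
  have h16 := card_cent_core h hyC y2
  set S := {q | g⁻¹ * q * g ∈ J ∧ Commute q z} with hS
  have hS16 : 16 ≤ S.ncard := by
    refine h16.trans (Set.ncard_le_ncard_of_injOn (fun p => g * p * g⁻¹) ?_ ?_ (Set.toFinite _))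
    · rintro p ⟨hp, hc'⟩
      refine ⟨by simpa [mul_assoc] using hp, ?_⟩
      have := (hc'.symm).map (MulAut.conj g).toMonoidHom
      simpa [mul_assoc, hy] using this
    · exact fun p _ q _ e => mul_left_cancel (mul_right_cancel e)
  have hval : ∀ q (hq : q ∈ S), ρ ⟨q, mem_cent hq.2⟩ = 1 ∨ ρ ⟨q, mem_cent hq.2⟩ = σ := by
    intro q hq
    have hfix : ∀ b, σ b = b → ρ ⟨q, mem_cent hq.2⟩ b = b := by
      intro b hb
      obtain ⟨p, hp, hpb⟩ := h.φ_surj b
      have hpW : p ∈ W := by
        show p ∈ (W : Set G)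
        rw [hWeq]
        exact ⟨hp, Finset.mem_filter.2 ⟨Finset.mem_univ _, by rw [hpb]; exact hb⟩⟩
      obtain ⟨p', hp'A, e⟩ : ∃ p' ∈ A, φ p' = b := by
        by_cases hpA : p ∈ A
        · exact ⟨p, hpA, hpb⟩
        · refine ⟨p * a, by_contra fun hn => hpA ((hflip p hpW).2 hn), ?_⟩
          rw [h.φ_mul p hp a h.a_mem, (h.φ_ker a h.a_mem).2 (Or.inr (Or.inr (Or.inl rfl))),
            vadd_zero', hpb]
      have hp'J := (hmemA.1 hp'A).1
      have hcp : Commute p' x := (mul_inv_eq_iff_eq_mul.1 (hmemA.1 hp'A).2).symm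
      have hpg : Commute (g⁻¹ * p' * g) z := by
        have := hcp.map (MulAut.conj g⁻¹).toMonoidHom
        simpa [mul_assoc, ← hgz] using this
      have hcomm : p' * q * p'⁻¹ * q⁻¹ = 1 := by
        refine hD _ ?_ ?_
        · rw [show p' * q * p'⁻¹ * q⁻¹ = p' * (q * p'⁻¹ * q⁻¹) by group]
          exact mul_mem hp'J (h.conj_mem q (mem_cent hq.2) _ (inv_mem hp'J))
        · rw [show g⁻¹ * (p' * q * p'⁻¹ * q⁻¹) * g = (g⁻¹ * p' * g) * (g⁻¹ * q * g) *
            (g⁻¹ * p' * g)⁻¹ * (g⁻¹ * q * g)⁻¹ by group]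
          exact mul_mem (h.conj_mem _ (mem_cent hpg) _ hq.1) (inv_mem hq.1)
      have hqp : q * p' * q⁻¹ = p' := by
        rw [mul_inv_eq_one, mul_inv_eq_iff_eq_mul] at hcomm
        exact mul_inv_eq_iff_eq_mul.2 hcomm.symm
      have := h.ρ_φ ⟨q, mem_cent hq.2⟩ p' hp'J
      rw [show ((⟨q, mem_cent hq.2⟩ : ↥(Subgroup.centralizer ({z} : Set G))) : G) = q from rfl,
        hqp, e] at this
      exact this.symm
    rcases h.lin_or_anti ⟨q, mem_cent hq.2⟩ with hl | hl
    · exact Or.inl (lin_eq_one hanti hi hl hfix)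
    · exact Or.inr (anti_eq_sig hanti hi hl hfix)
  have hS2 : S.ncard ≤ ({1, σ} : Finset (Equiv.Perm V)).card := by
    let F' : G → Equiv.Perm V := fun q =>
      if hq : q ∈ Subgroup.centralizer ({z} : Set G) then ρ ⟨q, hq⟩ else 1
    rw [← Set.ncard_coe_finset]
    refine Set.ncard_le_ncard_of_injOn F' ?_ ?_ (Set.toFinite _)
    · intro q hq
      simp only [F', dif_pos (mem_cent hq.2), Finset.coe_insert, Finset.coe_singleton,
        Set.mem_insert_iff, Set.mem_singleton_iff]
      exact hval q hq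
    · intro q hq q' hq' e
      simp only [F', dif_pos (mem_cent hq.2), dif_pos (mem_cent hq'.2)] at e
      have hm : q⁻¹ * q' ∈ J := (h.ρ_ker (⟨q, mem_cent hq.2⟩⁻¹ * ⟨q', mem_cent hq'.2⟩)).1 (by
        rw [map_mul, map_inv, e, inv_mul_cancel])
      refine inv_mul_eq_one.1 (hD _ hm ?_)
      rw [show g⁻¹ * (q⁻¹ * q') * g = (g⁻¹ * q * g)⁻¹ * (g⁻¹ * q' * g) by group]
      exact mul_mem (inv_mem hq.1) hq'.1
  have : ({1, σ} : Finset (Equiv.Perm V)).card ≤ 2 := Finset.card_le_two
  omega

end H39.Fi22C
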