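import Cfsg.Agent.H39.Fi22C.Outer
import Cfsg.Prelude.Def_Classical
import Cfsg.Prelude.Def_Transfer
import Cfsg.Prelude.Def_Spor_Fi22
import Cfsg.Agent.H1.Cores

/-!
Interfaces for S3232: an involution centraliser of shape `(2 × 2^(1+8)).U₄(2).2`.
-/

set_option autoImplicit false

namespace H39.Fi22C

open H38.U6C H2.U6E

/-- The data in the ambient group: `J = O₂(C(z))` has centre `{1, z, a, az}`, and `H₀`, the part of
`C(z)` over the inner automorphisms, is mapped by `π` onto `PSp 2 F` with kernel `J`. -/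
structure Setup3 {G : Type*} [Group G] {F : Type*} [Field F] [Fintype F] (z a : G)
    (J H₀ : Subgroup G) (π : ↥H₀ →* Cfsg.PSp 2 F) : Prop where
  card_F : Fintype.card F = 3
  sq : z * z = 1
  ne_one : z ≠ 1
  a_sq : a * a = 1
  a_out : a ≠ 1 ∧ a ≠ z
  le_cent : H₀ ≤ Subgroup.centralizer ({z} : Set G)
  J_le : J ≤ H₀
  z_mem : z ∈ J
  a_mem : a ∈ J
  a_H₀ : ∀ g ∈ H₀, Commute a g
  card_J : Nat.card J = 2 ^ 10
  conj_mem : ∀ g ∈ Subgroup.centralizer ({z} : Set G), ∀ j ∈ J, g * j * g⁻¹ ∈ J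
  conj_H₀ : ∀ g ∈ Subgroup.centralizer ({z} : Set G), ∀ h ∈ H₀, g * h * g⁻¹ ∈ H₀
  conj_a : ∀ g ∈ Subgroup.centralizer ({z} : Set G), g * a * g⁻¹ = a ∨ g * a * g⁻¹ = a * z
  out_mul : ∀ g ∈ Subgroup.centralizer ({z} : Set G), ∀ h ∈ Subgroup.centralizer ({z} : Set G),
    g ∉ H₀ → h ∉ H₀ → g * h ∈ H₀
  sq_mem : ∀ p ∈ J, p * p = 1 ∨ p * p = z
  comm_mem : ∀ p ∈ J, ∀ q ∈ J, p * q = q * p ∨ p * q = q * p * z
  center : ∀ p ∈ J, (∀ q ∈ J, Commute p q) → p = 1 ∨ p = z ∨ p = a ∨ p = a * z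
  self_cent : ∀ g ∈ Subgroup.centralizer ({z} : Set G), (∀ j ∈ J, Commute g j) → g ∈ J
  inner : ∀ g ∈ Subgroup.centralizer ({z} : Set G), (∀ h ∈ H₀, g * h * g⁻¹ * h⁻¹ ∈ J) → g ∈ H₀
  π_surj : Function.Surjective π
  π_ker : ∀ g : ↥H₀, π g = 1 ↔ (g : G) ∈ J
  core : J = (Cfsg.pCore 2 ↥(Subgroup.centralizer ({z} : Set G))).map
    (Subgroup.centralizer ({z} : Set G)).subtype
  card_cent : Nat.card (Subgroup.centralizer ({z} : Set G)) = 2 ^ 11 * 25920
  card_H₀ : Nat.card H₀ = 2 ^ 10 * 25920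
  card_psp : Nat.card (Cfsg.PSp 2 F) = 25920
  simple_psp : IsSimpleGroup (Cfsg.PSp 2 F)

/-- The natural module: the core read on the model, linear on `H₀` and semilinear outside it. -/
structure NatJ {G : Type*} [Group G] (z a : G) (J H₀ : Subgroup G) (φ : G → V)
    (ρ : ↥(Subgroup.centralizer ({z} : Set G)) →* Equiv.Perm V) : Prop where
  toCore : Core z a J φ ρ
  range₀ : (H₀.subgroupOf (Subgroup.centralizer ({z} : Set G))).map ρ = uGroup
  lin_of_mem : ∀ g : ↥(Subgroup.centralizer ({z} : Set G)), (g : G) ∈ H₀ → IsLin (ρ g)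
  anti_of_not_mem : ∀ g : ↥(Subgroup.centralizer ({z} : Set G)), (g : G) ∉ H₀ → IsAnti (ρ g)

/-- Two dimensions of `J/Z(J)` fixed by `H₀`. -/
structure FixJ {G : Type*} [Group G] (z a : G) (J H₀ U : Subgroup G) : Prop where
  le : U ≤ J
  z_mem : z ∈ U
  a_mem : a ∈ U
  card : Nat.card U = 16
  nondeg : ∀ u ∈ U, (∀ v ∈ U, Commute u v) → u = 1 ∨ u = z ∨ u = a ∨ u = a * z
  fix : ∀ g ∈ H₀, ∀ u ∈ U, u⁻¹ * (g * u * g⁻¹) = 1 ∨ u⁻¹ * (g * u * g⁻¹) = z ∨
    u⁻¹ * (g * u * g⁻¹) = a ∨ u⁻¹ * (g * u * g⁻¹) = a * z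

/-- The outer elements exchange `a` and `az`. -/
def Swap {G : Type*} [Group G] (z a : G) : Prop :=
  ∃ g ∈ Subgroup.centralizer ({z} : Set G), g * a * g⁻¹ = a * z

/-- The whole involution centraliser fixes `a`. -/
def NoSwap {G : Type*} [Group G] (z a : G) : Prop :=
  ∀ g ∈ Subgroup.centralizer ({z} : Set G), Commute g a

/-- `z` is isolated in the centraliser of `e`, which is then `(C(e) ∩ C(z))·O(C(e))`. -/
def Dead {G : Type*} [Group G] (z e : G) : Prop :=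
  (∀ g : G, Commute g e → Commute (g * z * g⁻¹) z → g * z * g⁻¹ = z) ∧
    ∀ P : Subgroup G, IsPGroup 2 P → (∀ p ∈ P, Commute p e) → (∀ p ∈ P, z * p * z⁻¹ ∈ P) →
      ∀ p ∈ P, Commute z p

/-- `C(a)/⟨a⟩` is the unitary group (swap case). -/
def LiveS {G : Type*} [Group G] (K : Type*) [Field K] [Fintype K] (a : G) : Prop :=
  ∃ f : ↥(Subgroup.centralizer ({a} : Set G)) →* Cfsg.PSU 6 K 2, Function.Surjective f ∧
    ∀ g, f g = 1 ↔ ((g : G) = 1 ∨ (g : G) = a)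

/-- `C(a)/⟨a⟩` has the unitary group with index two (case without swap). -/
def LiveN {G : Type*} [Group G] (K : Type*) [Field K] [Fintype K] (z a : G) (H₀ : Subgroup G) :
    Prop :=
  ∃ X₀ : Subgroup G, X₀ ≤ Subgroup.centralizer ({a} : Set G) ∧
    (X₀.subgroupOf (Subgroup.centralizer ({a} : Set G))).index = 2 ∧
    X₀ ⊓ Subgroup.centralizer ({z} : Set G) = H₀ ∧
    ∃ f : ↥X₀ →* Cfsg.PSU 6 K 2, Function.Surjective f ∧
      ∀ g, f g = 1 ↔ ((g : G) = 1 ∨ (g : G) = a)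

/-- The second alternative of S3232. -/
def AltTwo {G : Type*} [Group G] (K : Type*) [Field K] [Fintype K] (a : G) : Prop :=
  (Subgroup.zpowers a).Normal ∧
    ∃ (G₀ : Subgroup G) (_ : a ∈ G₀), G₀.index = 2 ∧
      ∃ hn : ((Subgroup.zpowers a).subgroupOf G₀).Normal,
        Nonempty ((↥G₀ ⧸ (Subgroup.zpowers a).subgroupOf G₀) ≃* Cfsg.PSU 6 K 2)

universe u v w

/-- helper50 -/
def ModuleJStmt : Prop :=
  ∀ {G : Type u} [Group G] [Finite G] {F : Type v} [Field F] [Fintype F] {z a : G}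
    {J H₀ : Subgroup G} {π : ↥H₀ →* Cfsg.PSp 2 F}, Setup3 z a J H₀ π →
    (∃ (φ : G → V) (ρ : ↥(Subgroup.centralizer ({z} : Set G)) →* Equiv.Perm V),
      NatJ z a J H₀ φ ρ) ∨ ∃ U : Subgroup G, FixJ z a J H₀ U

/-- helper38: the dichotomy in the swap case, by S3230. -/
def DichSStmt : Prop :=
  ∀ {G : Type u} [Group G] [Finite G] {F : Type v} [Field F] [Fintype F] (K : Type w) [Field K]
    [Fintype K], Fintype.card K = 4 → ∀ {z a : G} {J H₀ : Subgroup G} {π : ↥H₀ →* Cfsg.PSp 2 F},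
    Setup3 z a J H₀ π → Swap z a → Dead z a ∨ LiveS K a

/-- helper38: the dichotomy without swap, by S3231. -/
def DichNStmt : Prop :=
  ∀ {G : Type u} [Group G] [Finite G] {F : Type v} [Field F] [Fintype F] (K : Type w) [Field K]
    [Fintype K], Fintype.card K = 4 → ∀ {z a : G} {J H₀ : Subgroup G} {π : ↥H₀ →* Cfsg.PSp 2 F},
    Setup3 z a J H₀ π → NoSwap z a → Dead z a ∨ LiveN K z a H₀

/-- helper55: without swap, both sides dead make `z` weakly closed. -/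
def NoSwapDeadStmt : Prop :=
  ∀ {G : Type u} [Group G] [Finite G] {F : Type v} [Field F] [Fintype F] {z a : G}
    {J H₀ : Subgroup G} {π : ↥H₀ →* Cfsg.PSp 2 F} {φ : G → V}
    {ρ : ↥(Subgroup.centralizer ({z} : Set G)) →* Equiv.Perm V},
    Setup3 z a J H₀ π → NatJ z a J H₀ φ ρ → NoSwap z a → Dead z a → Dead z (a * z) → WC z

/-- helper55: without swap, a live side makes `a` isolated. -/
def NoSwapLiveStmt : Prop :=
  ∀ {G : Type u} [Group G] [Finite G] {F : Type v} [Field F] [Fintype F] (K : Type w) [Field K]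
    [Fintype K], Fintype.card K = 4 → ∀ {z a : G} {J H₀ : Subgroup G} {π : ↥H₀ →* Cfsg.PSp 2 F}
    {φ : G → V} {ρ : ↥(Subgroup.centralizer ({z} : Set G)) →* Equiv.Perm V},
    Setup3 z a J H₀ π → NatJ z a J H₀ φ ρ → NoSwap z a → LiveN K z a H₀ →
    ∀ g : G, Commute (g * a * g⁻¹) a → g * a * g⁻¹ = a

/-- helper35: an isolated live involution gives the second alternative. -/
def EndNStmt : Prop :=
  ∀ {G : Type u} [Group G] [Finite G] {F : Type v} [Field F] [Fintype F] (K : Type w) [Field K]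
    [Fintype K], Fintype.card K = 4 → ∀ {z a : G} {J H₀ : Subgroup G} {π : ↥H₀ →* Cfsg.PSp 2 F},
    Setup3 z a J H₀ π → NoSwap z a → LiveN K z a H₀ →
    (∀ g : G, Commute (g * a * g⁻¹) a → g * a * g⁻¹ = a) → AltTwo K a

/-- helper72: the live swap case is the Fischer group. -/
def LiveSwapStmt : Prop :=
  ∀ {G : Type u} [Group G] [Finite G] {F : Type v} [Field F] [Fintype F] (K : Type w) [Field K]
    [Fintype K], Fintype.card K = 4 → ∀ {z a : G} {J H₀ : Subgroup G} {π : ↥H₀ →* Cfsg.PSp 2 F},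
    Setup3 z a J H₀ π → Swap z a → LiveS K a → Cfsg.Spor.IsoFi22 G

/-- helper16: weak closure in the core, dead swap case. -/
def SwapWCJStmt : Prop :=
  ∀ {G : Type u} [Group G] [Finite G] {F : Type v} [Field F] [Fintype F] {z a : G}
    {J H₀ : Subgroup G} {π : ↥H₀ →* Cfsg.PSp 2 F} {φ : G → V}
    {ρ : ↥(Subgroup.centralizer ({z} : Set G)) →* Equiv.Perm V},
    Setup3 z a J H₀ π → NatJ z a J H₀ φ ρ → Swap z a → Dead z a →
    ∀ p ∈ J, IsConj z p → p = z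

/-- helper39: weak closure, dead swap case. -/
def SwapDeadStmt : Prop :=
  ∀ {G : Type u} [Group G] [Finite G] {F : Type v} [Field F] [Fintype F] {z a : G}
    {J H₀ : Subgroup G} {π : ↥H₀ →* Cfsg.PSp 2 F} {φ : G → V}
    {ρ : ↥(Subgroup.centralizer ({z} : Set G)) →* Equiv.Perm V},
    Setup3 z a J H₀ π → NatJ z a J H₀ φ ρ → Swap z a → Dead z a → WC z

/-- helper64, helper18: with fixed dimensions `z` is weakly closed. -/
def FixWCStmt : Prop :=
  ∀ {G : Type u} [Group G] [Finite G] {F : Type v} [Field F] [Fintype F] {z a : G}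
    {J H₀ U : Subgroup G} {π : ↥H₀ →* Cfsg.PSp 2 F},
    Setup3 z a J H₀ π → FixJ z a J H₀ U → WC z

end H39.Fi22C
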